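import Cfsg.Agent.H315.M5.Rest
import Cfsg.Agent.OrdDiv.Table
import Cfsg.Agent.S0000

/-!
# Recognition of the Monster among the simple groups with 5-part `5 ^ 8` or `5 ^ 9` (helper315)
-/

set_option autoImplicit false

namespace Cfsg.Agent.H315.M5

open Cfsg Cfsg.Agent.H777.Elim5

universe u

theorem elim5_of (R : Rows5) {K : Type u} [Group K] [Finite K] [IsSimpleGroup K] (hV : Vn5 8 K ∨ Vn5 9 K)
    (hB : ¬ Big5 K) : Vn5 9 K ∧ Spor.IsoM K :=
  elim_rows R Cfsg.Agent.OrdDiv.table Cfsg.Agent.S0000.result hV hB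

end Cfsg.Agent.H315.M5
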