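import Cfsg.Agent.OrdDiv.Main
import Cfsg.Agent.H469.RowRank
import Cfsg.Agent.H315.M5.Alt

/-!
# The elimination of the simple groups with Sylow 5-subgroup of order `5 ^ 8`, `5 ^ 9`: assembly (helper315, task 2155)
-/

set_option autoImplicit false

namespace Cfsg.Agent.H315.M5

open Cfsg Cfsg.Agent.OrdDiv Cfsg.Agent.H777.Elim5

universe u

/-- the rows of the classical groups and of the exceptional groups of rank at least two -/
structure Rows5 : Prop where
  psl : ∀ {n : ℕ}, 2 ≤ n → ∀ {F : Type} [Field F] [Fintype F], Row5 (Matrix.ProjectiveSpecialLinearGroup (Fin n) F)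
  psu : ∀ {n q : ℕ}, 3 ≤ n → ∀ {F : Type} [Field F] [Fintype F], Fintype.card F = q ^ 2 → Row5 (PSU n F q)
  psp : ∀ {m : ℕ}, 1 ≤ m → ∀ {F : Type} [Field F] [Fintype F], Row5 (PSp m F)
  oodd : ∀ {m : ℕ}, 3 ≤ m → ∀ {F : Type} [Field F] [Fintype F], Odd (Fintype.card F) →
    Row5 (POmega F (quadFormOdd m F))
  oplus : ∀ {m : ℕ}, 4 ≤ m → ∀ {F : Type} [Field F] [Fintype F], Row5 (POmega F (quadFormPlus m F))
  ominus : ∀ {m : ℕ}, 4 ≤ m → ∀ {F : Type} [Field F] [Fintype F] {a b : F},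
    (∀ z₁ z₂ : F, z₁ ^ 2 + a * z₁ * z₂ + b * z₂ ^ 2 = 0 → z₁ = 0 ∧ z₂ = 0) →
    Row5 (POmega F (quadFormMinus (m - 1) F a b))
  g2 : ∀ {F : Type} [Field F] [Fintype F], Row5 ↥(Lie.chevG2.group F)
  f4 : ∀ {F : Type} [Field F] [Fintype F], Row5 ↥(Lie.chevF4.group F)
  e6 : ∀ {F : Type} [Field F] [Fintype F], Row5 ↥(Lie.chevE6.group F)
  e7 : ∀ {F : Type} [Field F] [Fintype F], Row5 ↥(Lie.chevE7.group F)
  e8 : ∀ {F : Type} [Field F] [Fintype F], Row5 ↥(Lie.chevE8.group F)
  te6 : ∀ {F : Type} [Field F] [Fintype F] {q : ℕ}, IsPrimePow q → Fintype.card F = q ^ 2 →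
    Row5 ↥(Lie.twistedE6 F q)
  td4 : ∀ {F : Type} [Field F] [Fintype F] {q : ℕ}, IsPrimePow q → Fintype.card F = q ^ 3 →
    Row5 ↥(Lie.twistedD4 F q)
  tf4 : ∀ {F : Type} [Field F] [Fintype F] {m : ℕ}, 1 ≤ m → Fintype.card F = 2 ^ (2 * m + 1) →
    Row5 ↥(Lie.twistedF4 F (2 ^ m))

theorem dvd8 {X : Type*} [Group X] (hV : Vn5 8 X ∨ Vn5 9 X) : 5 ^ 8 ∣ Nat.card X := by
  rcases hV with h | h
  · exact h.1
  · exact (pow_dvd_pow 5 (by norm_num)).trans h.1

/-! ### alternating groups -/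

theorem alt_case {X : Type*} [Group X] {n : ℕ} (hn : 5 ≤ n) (hV : Vn5 8 X ∨ Vn5 9 X) (hB : ¬ Big5 X)
    (e : X ≃* ↥(alternatingGroup (Fin n))) : False := by
  have hc := alt_card hn e
  by_cases h25 : 25 ≤ n
  · exact hB ((alt_big h25).congr e.symm)
  · have h1 : 5 ^ 8 ∣ n.factorial := by
      rw [hc]
      exact (dvd8 hV).mul_left 2
    have h2 : 5 ^ 8 ∣ (24).factorial := h1.trans (Nat.factorial_dvd_factorial (by omega))
    revert h2; decide +kernel

/-! ### Suzuki groups -/

theorem suz_case {X : Type*} [Group X] [Finite X] (h : Lie.IsoSuzuki X) (hV : Vn5 8 X ∨ Vn5 9 X) (hB : ¬ Big5 X) :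
    False := by
  have h5 : Fact (Nat.Prime 5) := ⟨by norm_num⟩
  obtain ⟨P⟩ : Nonempty (Sylow 5 X) := inferInstance
  have hc := Cfsg.Agent.H469.RowRank.row_suzuki (by norm_num) h P
  apply hB
  refine ⟨(P : Subgroup X), P.isPGroup', ?_, ?_⟩
  · intro x hx y hy
    have h0 : IsMulCommutative (P : Subgroup X) := IsCyclic.isMulCommutative
    have h1 : (⟨x, hx⟩ : (P : Subgroup X)) * ⟨y, hy⟩ = ⟨y, hy⟩ * ⟨x, hx⟩ := h0.is_comm.comm _ _
    exact congrArg Subtype.val h1
  · have h1 : 5 ^ 8 ∣ Nat.card (P : Subgroup X) := P.pow_dvd_card_of_pow_dvd_card (dvd8 hV)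
    exact (Nat.pow_le_pow_right (by norm_num) (by norm_num)).trans (Nat.le_of_dvd Nat.card_pos h1)

/-! ### small Ree groups -/

theorem ree_arith (m : ℕ) : ¬ 5 ∣ (3 ^ (2 * m + 1)) ^ 3 * (3 ^ (2 * m + 1) - 1) * ((3 ^ (2 * m + 1)) ^ 3 + 1) := by
  have h : 3 ^ (2 * m + 1) % 5 = 3 ∨ 3 ^ (2 * m + 1) % 5 = 2 := by
    induction m with
    | zero => left; rfl
    | succ m ih =>
      have e : 3 ^ (2 * (m + 1) + 1) = 9 * 3 ^ (2 * m + 1) := by ring
      rw [e]
      omega
  have h5 : Nat.Prime 5 := by norm_num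
  generalize 3 ^ (2 * m + 1) = q at h
  intro hd
  have hq : q % 5 = 3 ∨ q % 5 = 2 := h
  rcases (h5.dvd_mul).1 hd with hd | hd
  · rcases (h5.dvd_mul).1 hd with hd | hd
    · have := h5.dvd_of_dvd_pow hd
      omega
    · omega
  · have h1 : (q ^ 3 + 1) % 5 = 0 := Nat.mod_eq_zero_of_dvd hd
    rcases hq with hq | hq
    · rw [Nat.add_mod, Nat.pow_mod, hq] at h1
      norm_num at h1
    · rw [Nat.add_mod, Nat.pow_mod, hq] at h1
      norm_num at h1

/-! ### the assembly -/

/-- the condition on the order -/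
def P (c : ℕ) : Bool := c % 5 ^ 8 == 0

theorem P_of {N : ℕ} (h : 5 ^ 8 ∣ N) : P N = true := by
  unfold P
  simpa using Nat.mod_eq_zero_of_dvd h

/-- **Elimination**, with the rows as a hypothesis. -/
theorem elim_rows (R : Rows5) (T : OrderTable.{u}) {K : Type u} [Group K] [Finite K] (h : IsKnownSimple' K)
    (hV : Vn5 8 K ∨ Vn5 9 K) (hB : ¬ Big5 K) : Vn5 9 K ∧ Spor.IsoM K := by
  have h8 := dvd8 hV
  have key : ∀ (g : Grp), g ∈ spor.map (fun x => x.1) → g ≠ .m → Real g K → False := fun g hg hne hr => by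
    obtain ⟨x, hx, rfl⟩ := List.mem_map.1 hg
    have h1 := P_of h8
    rw [T.spor K x hx hr] at h1
    have h2 : ∀ x ∈ spor, x.1 ≠ .m → P x.2 = false := by decide +kernel
    rw [h2 x hx hne] at h1
    exact absurd h1 (by decide)
  rcases h with h | h | h | h | h | h | h | h | h | h
  · exfalso
    have h3 := (Nat.prime_dvd_prime_iff_eq (by norm_num : Nat.Prime 5) h).1 ((dvd_pow_self 5 (by norm_num)).trans h8)
    have h4 := h8
    rw [← h3] at h4
    revert h4; decide
  · obtain ⟨n, hn, ⟨e⟩⟩ := h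
    exact (alt_case hn hV hB e).elim
  · obtain ⟨F, _, _, n, hn, hn2, ⟨e⟩⟩ := h
    exact absurd ((R.psl hn).congr e.symm hV) hB
  · obtain ⟨F, _, _, n, hn, hn2, ⟨e⟩⟩ := h
    exact absurd ((R.psp (by omega)).congr e.symm hV) hB
  · obtain ⟨F, _, _, n, q, hF, hn, hn2, ⟨e⟩⟩ := h
    exact absurd ((R.psu hn hF).congr e.symm hV) hB
  · obtain ⟨F, _, _, n, hn, ho, ⟨e⟩⟩ := h
    exact absurd ((R.oodd hn ho).congr e.symm hV) hB
  · obtain ⟨F, _, _, n, hn, ⟨e⟩⟩ := h
    exact absurd ((R.oplus hn).congr e.symm hV) hB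
  · obtain ⟨F, _, _, n, a, b, hn, hab, ⟨e⟩⟩ := h
    exact absurd ((R.ominus hn hab).congr e.symm hV) hB
  · exfalso
    rcases h with h | h | h | h | h | h | h | h | h | h | h
    · obtain ⟨F, _, _, hq, ⟨e⟩⟩ := h
      exact hB (R.g2.congr e.symm hV)
    · obtain ⟨F, _, _, ⟨e⟩⟩ := h
      exact hB (R.f4.congr e.symm hV)
    · obtain ⟨F, _, _, ⟨e⟩⟩ := h
      exact hB (R.e6.congr e.symm hV)
    · obtain ⟨F, _, _, ⟨e⟩⟩ := h
      exact hB (R.e7.congr e.symm hV)
    · obtain ⟨F, _, _, ⟨e⟩⟩ := h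
      exact hB (R.e8.congr e.symm hV)
    · obtain ⟨F, _, _, q, hq, hF, ⟨e⟩⟩ := h
      exact hB ((R.te6 hq hF).congr e.symm hV)
    · obtain ⟨F, _, _, q, hq, hF, ⟨e⟩⟩ := h
      exact hB ((R.td4 hq hF).congr e.symm hV)
    · exact suz_case h hV hB
    · obtain ⟨F, _, _, m, hm, hF, ⟨e⟩⟩ := h
      have hd : 5 ∣ Nat.card K := (dvd_pow_self 5 (by norm_num)).trans h8
      rw [Nat.card_congr e.toEquiv, T.ree F m hm hF] at hd
      exact ree_arith m hd
    · obtain ⟨F, _, _, m, hm, hF, ⟨e⟩⟩ := h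
      exact hB ((R.tf4 hm hF).congr e.symm hV)
    · exact key .tits (by decide) (by decide) h
  · rcases h with h | h | h | h | h | h | h | h | h | h | h | h | h | h | h | h | h | h | h | h | h | h | h | h | h | h
    · exact (key .m11 (by decide) (by decide) h).elim
    · exact (key .m12 (by decide) (by decide) h).elim
    · exact (key .m22 (by decide) (by decide) h).elim
    · exact (key .m23 (by decide) (by decide) h).elim
    · exact (key .m24 (by decide) (by decide) h).elim
    · exact (key .j1 (by decide) (by decide) h).elim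
    · exact (key .j2 (by decide) (by decide) h).elim
    · exact (key .j3 (by decide) (by decide) h).elim
    · exact (key .j4 (by decide) (by decide) h).elim
    · exact (key .co1 (by decide) (by decide) h).elim
    · exact (key .co2 (by decide) (by decide) h).elim
    · exact (key .co3 (by decide) (by decide) h).elim
    · exact (key .mcl (by decide) (by decide) h).elim
    · exact (key .hs (by decide) (by decide) h).elim
    · exact (key .suz (by decide) (by decide) h).elim
    · exact (key .he (by decide) (by decide) h).elim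
    · exact (key .ru (by decide) (by decide) h).elim
    · exact (key .on (by decide) (by decide) h).elim
    · exact (key .ly (by decide) (by decide) h).elim
    · exact (key .fi22 (by decide) (by decide) h).elim
    · exact (key .fi23 (by decide) (by decide) h).elim
    · exact (key .fi24 (by decide) (by decide) h).elim
    · exact (key .hn (by decide) (by decide) h).elim
    · exact (key .th (by decide) (by decide) h).elim
    · exact (key .b (by decide) (by decide) h).elim
    · refine ⟨?_, h⟩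
      have h1 : Nat.card K = 808017424794512875886459904961710757005754368000000000 :=
        T.spor K (.m, 808017424794512875886459904961710757005754368000000000) (by decide +kernel) h
      unfold Vn5
      rw [h1]
      constructor <;> norm_num

end Cfsg.Agent.H315.M5
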